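/-!
Machine-generated words for groups of Hall–Janko type. Letters: 1 w, 3 r, 5 y, 7 p, 9 z, 11 f; the next
number is the inverse letter.
-/

namespace Cfsg.Agent.J2Type.Enum

/-- relators of the complement of Q -/
def relA : List (List Nat) := [
    [1, 1],
    [3, 3, 3],
    [5, 5],
    [1, 3, 1, 3, 1, 3],
    [1, 5, 1, 5, 1, 5],
    [3, 5, 3, 5],
    [1, 3, 5, 1, 3, 5, 1, 3, 5, 1, 3, 5, 1, 3, 5]]

/-- relators of the centraliser of z -/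
def relB : List (List Nat) := [
    [1, 1],
    [3, 3, 3],
    [5, 5],
    [1, 3, 1, 3, 1, 3],
    [1, 5, 1, 5, 1, 5],
    [3, 5, 3, 5],
    [1, 3, 5, 1, 3, 5, 1, 3, 5, 1, 3, 5, 1, 3, 5],
    [7, 7],
    [1, 7, 1, 7],
    [3, 7, 4, 7],
    [3, 1, 5, 7, 5, 1, 4, 3, 3, 1, 5, 7, 5, 1, 4, 4, 1, 5, 7, 5, 1, 5, 7, 5, 7],
    [5, 7, 5, 7, 5, 7, 5, 7, 5, 7, 5, 7, 5, 7, 5, 7],
    [5, 7, 5, 7, 5, 7, 5, 7, 1, 8, 6, 8, 6, 8, 6, 8, 6, 2],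
    [5, 7, 5, 7, 5, 7, 5, 7, 3, 8, 6, 8, 6, 8, 6, 8, 6, 4],
    [5, 7, 5, 7, 5, 7, 5, 7, 5, 8, 6, 8, 6, 8, 6, 8, 6, 6],
    [5, 7, 5, 7, 5, 7, 5, 7, 7, 8, 6, 8, 6, 8, 6, 8, 6, 8]]

/-- relators of the group, apart from the linking one -/
def relC : List (List Nat) := [
    [1, 1],
    [3, 3, 3],
    [5, 5],
    [1, 3, 1, 3, 1, 3],
    [1, 5, 1, 5, 1, 5],
    [3, 5, 3, 5],
    [1, 3, 5, 1, 3, 5, 1, 3, 5, 1, 3, 5, 1, 3, 5],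
    [7, 7],
    [9, 9],
    [9, 7, 9, 7],
    [11, 11, 11, 11, 11],
    [9, 11, 9, 11],
    [7, 11, 7, 11, 7, 11, 7, 11, 7, 11],
    [7, 11, 11, 7, 11, 11, 7, 11, 11],
    [1, 7, 1, 7],
    [3, 7, 4, 7],
    [1, 9, 1, 9],
    [3, 9, 4, 9],
    [1, 11, 1, 12],
    [3, 11, 4, 12],
    [5, 9, 5, 9],
    [5, 11, 5, 12],
    [5, 7, 5, 7, 5, 7, 5, 7, 9],
    [3, 1, 5, 7, 5, 1, 4, 3, 3, 1, 5, 7, 5, 1, 4, 4, 1, 5, 7, 5, 1, 5, 7, 5, 7]]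

/-- the element k -/
def kW : List Nat := [11, 7, 11, 11]

/-- the element q -/
def qW : List Nat := [3, 1, 5, 7, 5, 1, 4, 3, 3, 1, 5, 7, 5, 1, 4, 4]

/-- the word for z -/
def zW : List Nat := [5, 7, 5, 7, 5, 7, 5, 7]

/-- the five conjugates of p -/
def pW : List (List Nat) := [
    [3, 1, 5, 7, 5, 1, 4],
    [3, 3, 1, 5, 7, 5, 1, 4, 4],
    [1, 5, 7, 5, 1],
    [5, 7, 5],
    [7]]

/-- elements of the alternating group of degree five -/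
def aW : List (List Nat) := [
    [],
    [1, 5],
    [5, 1],
    [4, 5],
    [4, 1],
    [4, 1, 5, 1],
    [1, 3],
    [1, 3, 1, 5],
    [1, 3, 5, 1],
    [1, 5, 1, 3],
    [4, 5, 1, 3],
    [1, 3, 1, 5, 1, 3],
    [5],
    [1],
    [1, 5, 1],
    [3],
    [3, 1, 5],
    [3, 5, 1],
    [1, 4, 5],
    [1, 4, 1],
    [1, 4, 1, 5, 1],
    [5, 1, 3],
    [3, 1, 5, 1, 3],
    [1, 4, 5, 1, 3],
    [4],
    [4, 1, 5],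
    [4, 5, 1],
    [3, 5],
    [3, 1],
    [3, 1, 5, 1],
    [4, 1, 3],
    [3, 1, 4, 5],
    [4, 1, 3, 5, 1],
    [4, 1, 5, 1, 3],
    [3, 5, 1, 3],
    [3, 1, 4, 5, 1, 3],
    [1, 3, 5],
    [1, 3, 1],
    [1, 3, 1, 5, 1],
    [1, 4],
    [1, 4, 1, 5],
    [1, 4, 5, 1],
    [4, 1, 3, 5],
    [3, 1, 4],
    [3, 1, 4, 5, 1],
    [1, 3, 5, 1, 3],
    [1, 4, 1, 5, 1, 3],
    [4, 1, 3, 5, 1, 3],
    [5, 1, 4],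
    [4, 1, 5, 1, 4],
    [1, 3, 5, 1, 4],
    [1, 5, 1, 4],
    [3, 5, 1, 4],
    [1, 4, 1, 5, 1, 4],
    [4, 5, 1, 4],
    [3, 1, 5, 1, 4],
    [4, 1, 3, 5, 1, 4],
    [1, 3, 1, 5, 1, 4],
    [1, 4, 5, 1, 4],
    [3, 1, 4, 5, 1, 4]]

/-- the stabiliser of the last point -/
def dW : List (List Nat) := [
    [],
    [4, 1],
    [1, 3],
    [1],
    [3],
    [1, 4, 1],
    [4],
    [3, 1],
    [4, 1, 3],
    [1, 3, 1],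
    [1, 4],
    [3, 1, 4]]

/-- representatives of C_Q(p) modulo the centre -/
def tW : List (List Nat) := [
    [],
    [7],
    [3, 1, 5, 7, 5, 1, 4, 3, 3, 1, 5, 7, 5, 1, 4, 4],
    [3, 1, 5, 7, 5, 1, 4, 1, 5, 7, 5, 1],
    [3, 1, 5, 7, 5, 1, 4, 5, 7, 5],
    [3, 3, 1, 5, 7, 5, 1, 4, 4, 1, 5, 7, 5, 1],
    [3, 3, 1, 5, 7, 5, 1, 4, 4, 5, 7, 5],
    [1, 5, 7, 5, 1, 5, 7, 5]]

/-- the image of q under k -/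
def uW : List Nat := [3, 1, 4, 3, 3, 1, 5, 7, 5, 1, 4, 4, 5, 7, 5, 5, 7, 5, 7, 5, 7, 5, 7]

/-- images of the six generators in the model, as words in the four reflections -/
def modelW : List (List Nat) := [
    [3, 2, 1, 0, 2, 0, 3, 1, 0, 1, 0],
    [2, 3, 2, 3, 0, 2, 0, 3, 1, 2, 1, 3],
    [3, 1, 2, 3, 0, 1, 0, 1, 2, 3, 1, 0, 2, 0, 1],
    [2, 3, 1, 2, 0, 1, 0, 2, 1, 3, 2],
    [0, 1, 2, 1, 0, 3, 0, 1, 2, 1, 0],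
    [3, 0, 1, 0, 3, 1, 2, 1, 3, 1, 0, 1, 0, 3]]

/-- the four reflections as words in the six generators -/
def backW : List (List Nat) := [
    [12, 1, 5, 7, 12, 12, 5, 7, 3, 1],
    [7, 12, 5, 7, 11, 3, 1, 5, 7, 12, 12, 4, 1, 5, 7, 1, 3],
    [11, 7, 5, 7, 12, 12, 7, 1, 5, 7, 12, 3, 1, 5, 7, 12, 1],
    [3, 1, 5, 7, 5, 1, 4, 9]]

/-- the action of the centraliser letters on 32 points -/
def tab32 : List (List Nat) := [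
    [0, 1, 2, 3, 4, 5, 6, 7, 8, 9, 10, 11, 12, 13, 14, 15, 16, 17, 18, 19, 20, 21, 22, 23, 24, 25, 26, 27, 28, 29, 30, 31],
    [0, 1, 18, 19, 8, 26, 6, 7, 4, 20, 11, 10, 21, 14, 13, 27, 17, 16, 2, 3, 9, 12, 23, 22, 25, 24, 5, 15, 29, 28, 31, 30],
    [0, 1, 18, 19, 8, 26, 6, 7, 4, 20, 11, 10, 21, 14, 13, 27, 17, 16, 2, 3, 9, 12, 23, 22, 25, 24, 5, 15, 29, 28, 31, 30],
    [0, 1, 2, 3, 4, 5, 6, 7, 24, 22, 13, 23, 10, 12, 28, 19, 18, 16, 17, 27, 14, 9, 21, 29, 25, 8, 31, 15, 20, 11, 26, 30],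
    [0, 1, 2, 3, 4, 5, 6, 7, 25, 21, 12, 29, 13, 10, 20, 27, 17, 18, 16, 15, 28, 22, 9, 11, 8, 24, 30, 19, 14, 23, 31, 26],
    [0, 2, 1, 4, 3, 6, 5, 7, 9, 8, 11, 10, 23, 29, 15, 14, 17, 16, 18, 20, 19, 24, 25, 12, 21, 22, 26, 28, 27, 13, 31, 30],
    [0, 2, 1, 4, 3, 6, 5, 7, 9, 8, 11, 10, 23, 29, 15, 14, 17, 16, 18, 20, 19, 24, 25, 12, 21, 22, 26, 28, 27, 13, 31, 30],
    [1, 0, 3, 2, 5, 4, 7, 6, 26, 10, 9, 20, 21, 22, 23, 16, 15, 27, 19, 18, 11, 12, 13, 14, 31, 30, 8, 17, 29, 28, 25, 24],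
    [1, 0, 3, 2, 5, 4, 7, 6, 26, 10, 9, 20, 21, 22, 23, 16, 15, 27, 19, 18, 11, 12, 13, 14, 31, 30, 8, 17, 29, 28, 25, 24]]

end Cfsg.Agent.J2Type.Enum
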